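import Cfsg.Agent.BpExc.FamTwSix
import Cfsg.Agent.BpExc.EmbInst
import Cfsg.Agent.H129.TorusMain

/-!
# Field and graph automorphisms of `D.group k` as frame automorphisms (copy of a section of `PreUniq.FinalInputs` by helper60, by helper778)

* `isFrob_fld`, `fr_fld` : the field automorphism `fld D Φ`, `Φ a = a ^ p ^ e`;
* `isFrob_symm`, `fr_symm` : conjugation by the signed permutation matrix `S.P k` of a symmetry `S` of the tables;
* `fr_E6`, `fr_D4` : the instances `symmE6`, `symmD4a`; `isFrob_symm_fld` : their products with `fld D Φ`.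
-/

set_option autoImplicit false
set_option linter.dupNamespace false
set_option linter.unusedSectionVars false

namespace Cfsg.Agent.H778.SigFr

open CoxeterSystem Cfsg Cfsg.Lie Cfsg.Agent.ChevalleyStructure Cfsg.Agent.ChevalleyStructure.Elts
  Cfsg.Agent.ChevalleyStructure.CoxeterGeom Cfsg.Agent.ChevalleyStructure.CoxeterGeomTypes
  Cfsg.Agent.ChevalleyStructure.NPerm Cfsg.Agent.Tits.Roots Cfsg.Agent.Tits.Core Cfsg.Agent.Nodes.Reps
  Cfsg.Agent.Nodes.BNOf Cfsg.Agent.Nodes.RGDChev Cfsg.Agent.KFacts.RgdChevCoord Cfsg.Agent.LangThm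
  Cfsg.Agent.BpExc.Fr Cfsg.Agent.BpExc.LangFr Cfsg.Agent.CpAut.RgdUntw
  Cfsg.Agent.ChevalleyStructure.SignedSymm Cfsg.Agent.ChevalleyStructure.GraphSymm

universe u

variable {D : ChevalleyDatum} {k : Type u} [Field k]

/-! ### automorphisms permuting the root elements -/

section Act

variable (hD : InList D)

/-- the root elements of `D.group k` -/
def xs (r : ℕ) (t : k) : ↥(D.group k) := ⟨xG hD r t, xG_mem_group hD r t⟩

theorem coe_xs (r : ℕ) (t : k) : ((xs hD r t : ↥(D.group k)) : GL D.Idx k) = xG hD r t := rfl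

/-- `σ` maps the root elements of `± r` to those of `± s`. -/
def Act (σ : MulAut ↥(D.group k)) (r s : ℕ) : Prop :=
  r < D.nroots ∧ s < D.nroots ∧ ∃ (c : k) (φ : k ≃+* k), c ≠ 0 ∧ (∀ t, σ (xs hD r t) = xs hD s (c * φ t)) ∧
    ∀ t, σ (xs hD (D.neg r) t) = xs hD (D.neg s) (c⁻¹ * φ t)

variable {hD} {σ : MulAut ↥(D.group k)} {r s : ℕ}

theorem Act.inv (h : Act hD σ r s) : Act hD σ⁻¹ s r := by
  obtain ⟨hr, hs, c, φ, hc, h1, h2⟩ := h
  have key : ∀ (a b : ℕ) (d : k), d ≠ 0 → (∀ t, σ (xs hD a t) = xs hD b (d * φ t)) →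
      ∀ t, σ⁻¹ (xs hD b t) = xs hD a (φ.symm d⁻¹ * φ.symm t) := by
    intro a b d hd h t
    apply σ.injective
    rw [MulAut.apply_inv_self, h, map_mul, RingEquiv.apply_symm_apply, RingEquiv.apply_symm_apply,
      mul_inv_cancel_left₀ hd]
  refine ⟨hs, hr, φ.symm c⁻¹, φ.symm, ?_, key r s c hc h1, ?_⟩
  · rw [Ne, map_eq_zero_iff φ.symm φ.symm.injective]
    exact inv_ne_zero hc
  · have h3 := key _ _ c⁻¹ (inv_ne_zero hc) h2
    intro t
    rw [h3 t]
    congr 2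
    rw [inv_inv, map_inv₀, inv_inv]

theorem nG_neg (r : ℕ) (t : k) : nG hD r (-t) = (nG hD r t)⁻¹ := by
  rw [nG_def, nG_def, mul_inv_rev, mul_inv_rev, xG_inv, xG_inv, neg_neg, ← mul_assoc]
  congr 2
  rw [inv_neg, neg_neg]

/-- the image of `h_r(t)` -/
theorem Act.hG (h : Act hD σ r s) {t : k} (ht : t ≠ 0) (g : ↥(D.group k)) (hg : (g : GL D.Idx k) = hG hD r t) :
    (σ g : GL D.Idx k) ∈ D.diagonalSubgroup k := by
  obtain ⟨hr, hs, c, φ, hc, h1, h2⟩ := h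
  have hn : ∀ (u : k) (g : ↥(D.group k)), (g : GL D.Idx k) = nG hD r u →
      (σ g : GL D.Idx k) = nG hD s (c * φ u) := by
    intro u g hg
    have h3 : g = xs hD r u * (xs hD (D.neg r) (-u⁻¹) * xs hD r u) := by
      apply Subtype.ext
      rw [hg, nG_def]
      rfl
    rw [h3, map_mul, map_mul, h1, h2, nG_def, map_neg, map_inv₀]
    show xG hD s (c * φ u) * (xG hD (D.neg s) (c⁻¹ * -(φ u)⁻¹) * xG hD s (c * φ u)) = _
    rw [mul_inv, mul_neg]
  have hn1 : nG hD r t ∈ D.group k := nG_mem_group hD r t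
  have hn2 : nG hD r (-1 : k) ∈ D.group k := nG_mem_group hD r _
  have h4 : g = ⟨nG hD r t, hn1⟩ * ⟨nG hD r (-1 : k), hn2⟩ := by
    apply Subtype.ext
    rw [hg, hG_def]
    rfl
  rw [h4, map_mul, Subgroup.coe_mul, hn t _ rfl, hn (-1) _ rfl, map_neg, map_one, mul_neg, mul_one]
  have h5 : ∀ u : k, nG hD s u = Elts.hG hD s u * nG hD s 1 := by
    intro u
    rw [hG_def, nG_neg]
    group
  rw [nG_neg, h5 (c * φ t), h5 c, mul_inv_rev]
  have h6 : Elts.hG hD s (c * φ t) * nG hD s 1 * ((nG hD s 1)⁻¹ * (Elts.hG hD s c)⁻¹) =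
      Elts.hG hD s (c * φ t) * (Elts.hG hD s c)⁻¹ := by group
  rw [h6]
  exact mul_mem (hG_mem_diagonal hD hs (mul_ne_zero hc ((map_ne_zero φ).2 ht)))
    (inv_mem (hG_mem_diagonal hD hs hc))

theorem mem_TT_of_act (h : ∀ r < D.nroots, ∃ s, Act hD σ r s) {t : ↥(D.group k)} (ht : t ∈ TT D k) :
    σ t ∈ TT D k := by
  have h1 : D.diagonalSubgroup k ≤ (((D.diagonalSubgroup k).subgroupOf (D.group k)).comap σ.toMonoidHom).map
      (D.group k).subtype := by
    rw [diagonal_le_iff hD]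
    intro r hr u hu
    obtain ⟨s, hs⟩ := h r hr
    have hm : Elts.hG hD r u ∈ D.group k := hG_mem_group hD r u
    exact ⟨⟨Elts.hG hD r u, hm⟩, hs.hG hu _ rfl, rfl⟩
  obtain ⟨t', ht', e⟩ := h1 ht
  have h2 : t' = t := Subtype.ext e
  rw [← h2]
  exact ht'

variable {l : ℕ} {M : CoxeterMatrix (Fin l)} (hp : IsType D l M) {W : Type*} [Group W] (cs : CoxeterSystem M W)

include hp cs in
/-- **Frame automorphisms from the action on the root elements.** -/
theorem fr_of_act {g : (Fin l → ℤ) ≃+ (Fin l → ℤ)}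
    (h : ∀ r < D.nroots, ∃ s, vec D l s = g (vec D l r) ∧ Act hp.inList σ r s)
    (h' : ∀ s < D.nroots, ∃ r, vec D l s = g (vec D l r) ∧ Act hp.inList σ r s) :
    Fr cs hp.isCartan (TT D k) (XX D l k) σ g := by
  refine ⟨fun t => ⟨fun ht => ?_, fun ht => ?_⟩, fun a => ⟨fun ha => ?_, fun ha => ?_⟩, fun a ha y => ?_⟩
  · have h1 : σ⁻¹ (σ t) ∈ TT D k := by
      refine mem_TT_of_act (hD := hp.inList) (fun s hs => ?_) ht
      obtain ⟨r, -, hr⟩ := h' s hs
      exact ⟨r, hr.inv⟩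
    rwa [MulAut.inv_apply_self] at h1
  · refine mem_TT_of_act (hD := hp.inList) (fun r hr => ?_) ht
    obtain ⟨s, -, hs⟩ := h r hr
    exact ⟨s, hs⟩
  · obtain ⟨s, hs, hsa⟩ := (isRoot_iff hp cs _).1 ha
    obtain ⟨r, hr1, hr2⟩ := h' s hs
    rw [hsa] at hr1
    rw [g.injective hr1]
    exact (isRoot_iff hp cs _).2 ⟨r, hr2.1, rfl⟩
  · obtain ⟨r, hr, rfl⟩ := (isRoot_iff hp cs _).1 ha
    obtain ⟨s, hs1, hs2⟩ := h r hr
    exact (isRoot_iff hp cs _).2 ⟨s, hs2.2.1, hs1⟩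
  · obtain ⟨r, hr, rfl⟩ := (isRoot_iff hp cs _).1 ha
    obtain ⟨s, hs1, -, hs, c, φ, hc, h1, -⟩ := h r hr
    rw [← hs1, mem_XX_vec hp hs, mem_XX_vec hp hr]
    constructor
    · rintro ⟨u, hu⟩
      refine ⟨φ.symm (c⁻¹ * u), ?_⟩
      have h2 : σ y = σ (xs hp.inList r (φ.symm (c⁻¹ * u))) := by
        rw [h1, RingEquiv.apply_symm_apply, mul_inv_cancel_left₀ hc]
        exact Subtype.ext hu
      rw [σ.injective h2]
      rfl
    · rintro ⟨u, hu⟩
      refine ⟨c * φ u, ?_⟩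
      have h2 : y = xs hp.inList r u := Subtype.ext hu
      rw [h2, h1]
      rfl

end Act

/-! ### field automorphisms -/

section Fld

variable {p e : ℕ} [Fact p.Prime] [CharP k p]

theorem coe_fld_frob {Φ : k ≃+* k} (hΦ : ∀ a, Φ a = a ^ p ^ e) (g : ↥(D.group k)) :
    ((fld D Φ g : ↥(D.group k)) : GL D.Idx k) = frob p e (g : GL D.Idx k) := by
  apply co_injective
  funext ij
  rw [co_frob]
  exact hΦ _

theorem isFrob_fld {Φ : k ≃+* k} (hΦ : ∀ a, Φ a = a ^ p ^ e) : IsFrob p e (fld D Φ) :=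
  ⟨1, fun g => by rw [coe_fld_frob hΦ, one_mul, inv_one, mul_one]⟩

theorem fld_xs (hD : InList D) (Φ : k ≃+* k) (r : ℕ) (t : k) : fld D Φ (xs hD r t) = xs hD r (Φ t) := by
  apply Subtype.ext
  apply Units.ext
  rw [fld_coe, coe_xs, coe_xs, coe_xG, coe_xG]
  exact Cfsg.Agent.ChevStructure.FieldMap.x_map D (Φ : k →+* k) r t

theorem act_fld (hD : InList D) (Φ : k ≃+* k) {r : ℕ} (hr : r < D.nroots) : Act hD (fld D Φ) r r :=
  ⟨hr, hr, 1, Φ, one_ne_zero, fun t => by rw [fld_xs, one_mul], fun t => by rw [fld_xs, inv_one, one_mul]⟩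

variable {l : ℕ} {M : CoxeterMatrix (Fin l)} (hp : IsType D l M) {W : Type*} [Group W] (cs : CoxeterSystem M W)

/-- **Field automorphisms are frame automorphisms.** -/
theorem fr_fld (Φ : k ≃+* k) :
    Fr cs hp.isCartan (TT D k) (XX D l k) (fld D Φ) (AddEquiv.refl (Fin l → ℤ)) :=
  fr_of_act hp cs (fun r hr => ⟨r, rfl, act_fld hp.inList Φ hr⟩) (fun s hs => ⟨s, rfl, act_fld hp.inList Φ hs⟩)

end Fld

/-! ### graph automorphisms -/

section Graph

variable (S : Symm D) {γ : MulAut ↥(D.group k)}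

theorem isFrob_symm {p : ℕ} [Fact p.Prime] [CharP k p]
    (hγ : ∀ g, ((γ g : ↥(D.group k)) : GL D.Idx k) = S.P k * g * (S.P k)⁻¹) : IsFrob p 0 γ :=
  ⟨S.P k, fun g => by rw [hγ, frob_zero]⟩

theorem isFrob_symm_fld {p e : ℕ} [Fact p.Prime] [CharP k p]
    (hγ : ∀ g, ((γ g : ↥(D.group k)) : GL D.Idx k) = S.P k * g * (S.P k)⁻¹) {Φ : k ≃+* k}
    (hΦ : ∀ a, Φ a = a ^ p ^ e) : IsFrob p e (γ * fld D Φ) := by
  have h1 := (isFrob_symm S (p := p) hγ).mul (isFrob_fld (D := D) hΦ)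
  rwa [zero_add] at h1

theorem act_symm (hD : InList D) (hγ : ∀ g, ((γ g : ↥(D.group k)) : GL D.Idx k) = S.P k * g * (S.P k)⁻¹)
    (hneg : ∀ r < D.nroots, D.neg r < D.nroots) (r : Fin D.nroots) : Act hD γ r (S.σ r) := by
  have key : ∀ (r : Fin D.nroots) (t : k), γ (xs hD r t) = xs hD (S.σ r).val (((S.ε r : ℤ) : k) * t) := by
    intro r t
    apply Subtype.ext
    rw [hγ]
    apply Units.ext
    rw [Units.val_mul, Units.val_mul, S.coe_P_inv, S.coe_P, coe_xs, coe_xs, coe_xG, coe_xG, S.mat_conj_x]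
  have hε : ((S.ε r : ℤ) : k) * ((S.ε r : ℤ) : k) = 1 := by rw [← Int.cast_mul, S.ε_sq, Int.cast_one]
  have hε0 : ((S.ε r : ℤ) : k) ≠ 0 := fun h0 => by
    rw [h0, mul_zero] at hε
    exact zero_ne_one hε
  refine ⟨r.2, (S.σ r).2, ((S.ε r : ℤ) : k), RingEquiv.refl k, hε0, fun t => ?_, fun t => ?_⟩
  · rw [key]
    rfl
  · have hn := hneg r r.2
    have h1 := key ⟨D.neg r, hn⟩ t
    have h2 : (S.σ ⟨D.neg r, hn⟩).val = D.neg (S.σ r) := (S.neg_iff r ⟨D.neg r, hn⟩).2 rfl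
    have h3 : S.ε ⟨D.neg r, hn⟩ = S.ε r := S.ε_neg r ⟨D.neg r, hn⟩ rfl
    rw [h2, h3] at h1
    refine h1.trans ?_
    rw [inv_eq_of_mul_eq_one_right hε]
    rfl

variable {l : ℕ} {M : CoxeterMatrix (Fin l)} (hp : IsType D l M) {W : Type*} [Group W] (cs : CoxeterSystem M W)

/-- the automorphism of the root lattice given by a permutation of the fundamental roots -/
def latt {l : ℕ} (π : Equiv.Perm (Fin l)) : (Fin l → ℤ) ≃+ (Fin l → ℤ) where
  toFun v i := v (π i)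
  invFun v i := v (π.symm i)
  left_inv v := by funext i; simp
  right_inv v := by funext i; simp
  map_add' v w := rfl

@[simp] theorem latt_apply {l : ℕ} (π : Equiv.Perm (Fin l)) (v : Fin l → ℤ) (i : Fin l) : latt π v i = v (π i) := rfl

include hp in
/-- **Graph automorphisms are frame automorphisms.** -/
theorem fr_symm (hγ : ∀ g, ((γ g : ↥(D.group k)) : GL D.Idx k) = S.P k * g * (S.P k)⁻¹)
    (π : Equiv.Perm (Fin l)) (hπ : ∀ (r : Fin D.nroots) (i : Fin l), vec D l (S.σ r) i = vec D l r (π i)) :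
    Fr cs hp.isCartan (TT D k) (XX D l k) γ (latt π) := by
  have hneg : ∀ r < D.nroots, D.neg r < D.nroots := fun r hr => neg_lt hp.inList hr
  refine fr_of_act hp cs (fun r hr => ⟨S.σ ⟨r, hr⟩, ?_, act_symm S hp.inList hγ hneg ⟨r, hr⟩⟩) (fun s hs => ?_)
  · funext i
    exact hπ ⟨r, hr⟩ i
  · have h1 := act_symm S hp.inList hγ hneg (S.σ.symm ⟨s, hs⟩)
    rw [Equiv.apply_symm_apply] at h1
    refine ⟨_, ?_, h1⟩
    funext i
    have h2 := hπ (S.σ.symm ⟨s, hs⟩) i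
    rw [Equiv.apply_symm_apply] at h2
    exact h2

end Graph

/-! ### the instances -/

/-- the graph automorphism of `E₆` -/
theorem piE6 : ∀ (r : Fin chevE6.nroots) (i : Fin 6),
    vec chevE6 6 (symmE6.σ r) i = vec chevE6 6 r (symmE6.σ₀.symm i) := by decide +kernel

/-- the graph automorphism of order three of `D₄` -/
theorem piD4 : ∀ (r : Fin chevD4.nroots) (i : Fin 4),
    vec chevD4 4 (symmD4a.σ r) i = vec chevD4 4 r (symmD4a.σ₀.symm i) := by decide +kernel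

theorem fr_E6 {γ : MulAut ↥(chevE6.group k)}
    (hγ : ∀ g, ((γ g : ↥(chevE6.group k)) : GL chevE6.Idx k) = symmE6.P k * g * (symmE6.P k)⁻¹)
    {W : Type*} [Group W] (cs : CoxeterSystem CoxeterMatrix.E₆ W) :
    Fr cs Nodes.RGDTwE6.hp.isCartan (TT chevE6 k) (XX chevE6 6 k) γ (latt symmE6.σ₀.symm) :=
  fr_symm symmE6 Nodes.RGDTwE6.hp cs hγ symmE6.σ₀.symm piE6

theorem fr_D4 {γ : MulAut ↥(chevD4.group k)}
    (hγ : ∀ g, ((γ g : ↥(chevD4.group k)) : GL chevD4.Idx k) = symmD4a.P k * g * (symmD4a.P k)⁻¹)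
    {W : Type*} [Group W] (cs : CoxeterSystem coxeterD4 W) :
    Fr cs Nodes.RGDTwD4.hp.isCartan (TT chevD4 k) (XX chevD4 4 k) γ (latt symmD4a.σ₀.symm) :=
  fr_symm symmD4a Nodes.RGDTwD4.hp cs hγ symmD4a.σ₀.symm piD4

end Cfsg.Agent.H778.SigFr
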