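import Cfsg.Agent.H778.ExcOrb
import Cfsg.Agent.H778.ExcData
import Cfsg.Agent.H130.WeylTab

/-!
# Certificates for `p = 3` and `p = 5` (helper778; generated)
-/

set_option autoImplicit false
set_option maxRecDepth 100000

namespace Cfsg.Agent.H778.Exc

open Cfsg.Agent.H130.WeylTab Cfsg.Agent.H130.WeylCk Cfsg.Agent.ChevalleyStructure.CoxeterGeomTypes

/-- the Cartan matrix of type D4 -/
def alD4 : List (List ℤ) := [[2, -1, 0, 0], [-1, 2, -1, -1], [0, -1, 2, 0], [0, -1, 0, 2]]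

theorem lists_D4 : MatList (cartanOf Cfsg.Lie.chevD4 4) alD4 := by
  unfold MatList
  decide +kernel

/-- the codes of the roots of type G2 -/
def clG2 : List ℕ := [
    101, 117, 118, 119, 135, 120, 152, 137, 153, 154, 155, 171]

/-- the roots of type G2 -/
def rlG2 : List (List ℤ) := clG2.map (decN 2)

theorem rootList_G2 : RootList Cfsg.Lie.chevG2 2 rlG2 := by
  unfold RootList
  decide +kernel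

/-- the codes of the roots of type D4 -/
def clD4 : List ℕ := [
    30567, 30583, 34679, 30839, 34935, 34951, 30584, 34680, 30840, 34936, 34696, 30856, 39048, 35208, 34968, 39064,
    35224, 39320, 34953, 34969, 39065, 35225, 39321, 39337]

/-- the roots of type D4 -/
def rlD4 : List (List ℤ) := clD4.map (decN 4)

theorem rootList_D4 : RootList Cfsg.Lie.chevD4 4 rlD4 := by
  unfold RootList
  decide +kernel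

/-- the codes of the roots of type F4 -/
def clF4 : List ℕ := [
    25926, 30022, 30278, 30294, 30310, 30566, 34662, 30295, 30311, 30567, 34663, 30583, 34679, 34935, 34951, 30312,
    30568, 34664, 30584, 34680, 34936, 30600, 34696, 30856, 39048, 35208, 39304, 34968, 35224, 39320, 35240, 39336,
    39592, 34953, 34969, 35225, 39321, 35241, 39337, 39593, 39609, 35242, 39338, 39594, 39610, 39626, 39882, 43978]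

/-- the roots of type F4 -/
def rlF4 : List (List ℤ) := clF4.map (decN 4)

theorem rootList_F4 : RootList Cfsg.Lie.chevF4 4 rlF4 := by
  unfold RootList
  decide +kernel

theorem cert_G2_3 : RCert Cfsg.Lie.chevG2 2 3 alG2 2 [0, 1]
    [1, 0, 1, 0, 1]
    [0, 1, 0, 1] [true, false] [[], [1, 0]] rlG2 where
  la := rfl
  rat := by decide +kernel
  one := by decide +kernel
  ne := by decide +kernel
  lf := rfl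
  fix := by decide +kernel
  cnt := by decide +kernel

theorem cert_D4_3 : OCert Cfsg.Lie.chevD4 4 3 alD4 2 [0, 1, 0, 0] [1, 2, 0, 1, 3, 1, 2, 0, 1] [0, 1]
    [[0, 1, 0, 0], [1, -1, 1, 1], [-1, 0, 1, 1], [1, 0, -1, 1], [1, 0, 1, -1], [-1, 1, 1, -1], [1, 1, -1, -1], [-1,
    -1, -1, -1], [-1, -1, 0, 0], [1, 1, 0, 0], [-1, -1, 1, 1], [1, 1, 1, 1], [-1, 0, -1, 1], [-1, 0, 1, -1], [1,
    -1, 1, -1], [-1, 1, -1, -1], [1, 0, -1, -1], [0, -1, 0, 0], [1, -1, -1, 1], [0, 1, 1, 0], [0, -1, -1, 0], [0,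
    1, 0, 1], [0, -1, 0, -1], [-1, 1, -1, 1]] where
  la := rfl
  rat := by decide +kernel
  one := by decide +kernel
  ne := by decide +kernel
  lo := by decide +kernel
  mem := by decide +kernel
  cl := by decide +kernel
  nf := by decide +kernel

/-- a word -/
def cwF4 : List (Fin 4) := [0, 2, 1, 3, 0, 2, 1, 3, 0, 2, 1, 3, 0, 2, 1, 3]

/-- its matrix -/
def cMF4 : List (List ℤ) := [[0, 1, 1, 1], [-1, -3, -2, -1], [2, 4, 2, 1], [-2, -2, -1, -1]]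

/-- fixed functionals -/
def bLF4 : List (List ℤ) := [[1, 0, 1, 0], [0, -1, 0, 1]]

theorem cntF4 : ∀ cs ∈ enumAll 3 ([2, 3] : List (Fin 4)).length, cntL 3 rlF4 (lcomb 4 cs bLF4) 0 ≠
    cntL 3 rlF4 [1, 0, 0, 0] 0 ∨ cntL 3 rlF4 (lcomb 4 cs bLF4) 1 ≠ cntL 3 rlF4 [1, 0, 0, 0] 1 := by decide +kernel

theorem cmF4 : ∀ i : Fin 4, ac alF4 cwF4 (bas 4 i) = cMF4.getD i [] := by decide +kernel

theorem oneF4 : ∀ i : Fin 4, acn alF4 cwF4 (3) (bas 4 i) = bas 4 i := by decide +kernel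

/-- functionals -/
def vLF4 : List (List ℤ) := [[1, 0, 0, 0], [0, 1, 0, 0], [0, 0, 1, 0], [0, 0, 0, 1]]

theorem nvF4 : ∀ x ∈ rlF4, ∃ v ∈ vLF4, dot x v % 3 ≠ 0 := by decide +kernel

theorem sepF4 : ∀ i : Fin 4, ∀ x ∈ rlF4, (∀ v ∈ vLF4, (dot x v - v.getD i 0) % 3 = 0) → ∀ y ∈ x, 0 ≤ y := by
  decide +kernel

theorem mc_F4_1 : MCert Cfsg.Lie.chevF4 4 3 alF4 id
    []
    1 vLF4 cwF4 (3 ^ 1) [1, 0, 0, 0] [2, 3] bLF4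
    [[1, 1, 0, 0], [-1, 1, 0, 0], [], []]
    []
    [[1, 0, 0, 0], [0, 1, 0, 0], [0, 0, 1, 0], [0, 0, 0, 1]]
    cMF4 rlF4 where
  la := rfl
  tm := by decide +kernel
  cm := cmF4
  ra := by decide +kernel
  lv := by decide +kernel
  rv := by decide +kernel
  nv := nvF4
  sep := sepF4
  one := oneF4
  com := by decide +kernel
  fix := by decide +kernel
  cnt := cntF4

theorem mc_F4_2 : MCert Cfsg.Lie.chevF4 4 3 alF4 id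
    [0, 2, 1, 3, 0, 2, 1, 3, 0, 2, 1, 3, 0, 2, 1, 3, 0, 2, 1, 3, 0, 2, 1, 3]
    2 vLF4 cwF4 (3 ^ 1) [1, 0, 0, 0] [2, 3] bLF4
    [[1, 1, 0, 0], [-1, 1, 0, 0], [], []]
    []
    [[-1, 0, 0, 0], [0, -1, 0, 0], [0, 0, -1, 0], [0, 0, 0, -1]]
    cMF4 rlF4 where
  la := rfl
  tm := by decide +kernel
  cm := cmF4
  ra := by decide +kernel
  lv := by decide +kernel
  rv := by decide +kernel
  nv := nvF4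
  sep := sepF4
  one := oneF4
  com := by decide +kernel
  fix := by decide +kernel
  cnt := cntF4

/-- a word -/
def cwE6 : List (Fin 6) := [0, 3, 5, 2, 4, 1, 0, 3, 5, 2, 4, 1, 0, 3, 5, 2, 4, 1, 0, 3, 5, 2, 4, 1]

/-- its matrix -/
def cME6 : List (List ℤ) := [[0, 1, 1, 1, 0, 0], [-1, -1, -1, -1, -1, -1], [-1, -1, -2, -2, -1, 0], [1, 1, 2, 2, 2, 1], [0, -1, -1, -2, -2,
    -1], [0, 1, 0, 1, 1, 0]]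

/-- fixed functionals -/
def bLE6 : List (List ℤ) := [[0, -1, 1, 0, 1, 0], [1, 0, 0, 1, 0, 1]]

theorem cntE6 : ∀ cs ∈ enumAll 3 ([4, 5] : List (Fin 6)).length, cntL 3 rlE6 (lcomb 6 cs bLE6) 0 ≠
    cntL 3 rlE6 [0, 1, 0, 0, 0, 0] 0 ∨ cntL 3 rlE6 (lcomb 6 cs bLE6) 1 ≠ cntL 3 rlE6 [0, 1, 0, 0, 0, 0] 1 := by decide +kernel

theorem cmE6 : ∀ i : Fin 6, ac alE6 cwE6 (bas 6 i) = cME6.getD i [] := by decide +kernel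

theorem oneE6 : ∀ i : Fin 6, acn alE6 cwE6 (3) (bas 6 i) = bas 6 i := by decide +kernel

/-- functionals -/
def vLE6t : List (List ℤ) := [[1, 0, 0, 0, 0, 1], [0, 0, 1, 0, 1, 0], [0, 1, 0, 0, 0, 0], [0, 0, 0, 1, 0, 0]]

theorem nvE6t : ∀ x ∈ rlE6, ∃ v ∈ vLE6t, dot x v % 3 ≠ 0 := by decide +kernel

theorem sepE6t : ∀ i : Fin 6, ∀ x ∈ rlE6, (∀ v ∈ vLE6t, (dot x v - v.getD i 0) % 3 = 0) → ∀ y ∈ x, 0 ≤ y := by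
  decide +kernel

theorem mc_E6_2 : MCert Cfsg.Lie.chevE6 6 3 alE6 id
    [0, 3, 5, 2, 4, 1, 0, 3, 5, 2, 4, 1, 0, 3, 5, 2, 4, 1, 0, 3, 5, 2, 4, 1, 0, 3, 5, 2, 4, 1, 0, 3, 5, 2, 4, 1]
    2 vLE6t cwE6 (3 ^ 1) [0, 1, 0, 0, 0, 0] [4, 5] bLE6
    [[0, 0, 0, 0, 0, 0], [-1, -1, 0, 0, 0, 0], [0, -1, -1, 0, 0, 0], [-1, -1, 1, 0, 0, 0], [], []]
    [[1, 0, 0, 0, 0, 0], [1, 0, 0, 0, 0, 0], [1, 0, 0, 0, 0, 0], [-1, 0, 0, 0, 0, 0], [], []]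
    [[0, 0, 0, 0, 0, -1], [0, -1, 0, 0, 0, 0], [0, 0, 0, 0, -1, 0], [0, 0, 0, -1, 0, 0], [0, 0, -1, 0, 0, 0], [-1,
    0, 0, 0, 0, 0]]
    cME6 rlE6 where
  la := rfl
  tm := by decide +kernel
  cm := cmE6
  ra := by decide +kernel
  lv := by decide +kernel
  rv := by decide +kernel
  nv := nvE6t
  sep := sepE6t
  one := oneE6
  com := by decide +kernel
  fix := by decide +kernel
  cnt := cntE6

/-- a word -/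
def cwE6b : List (Fin 6) := [0, 3, 5, 2, 4, 1, 0, 3, 5, 2, 4, 1, 0, 3, 5, 2, 4, 1, 0, 3, 5, 2, 4, 1]

/-- its matrix -/
def cME6b : List (List ℤ) := [[0, 1, 1, 1, 0, 0], [-1, -1, -1, -1, -1, -1], [-1, -1, -2, -2, -1, 0], [1, 1, 2, 2, 2, 1], [0, -1, -1, -2, -2,
    -1], [0, 1, 0, 1, 1, 0]]

/-- fixed functionals -/
def bLE6b : List (List ℤ) := [[-1, -1, -1, 1, 0, 0], [0, -1, 1, 0, 1, 0], [-1, 1, 1, 0, 0, 1]]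

theorem cntE6b : ∀ cs ∈ enumAll 3 ([3, 4, 5] : List (Fin 6)).length, cntL 3 rlE6 (lcomb 6 cs bLE6b) 0 ≠
    cntL 3 rlE6 [0, 1, 0, 0, 0, 0] 0 ∨ cntL 3 rlE6 (lcomb 6 cs bLE6b) 1 ≠ cntL 3 rlE6 [0, 1, 0, 0, 0, 0] 1 := by decide +kernel

theorem cmE6b : ∀ i : Fin 6, ac alE6 cwE6b (bas 6 i) = cME6b.getD i [] := by decide +kernel

theorem oneE6b : ∀ i : Fin 6, acn alE6 cwE6b (3) (bas 6 i) = bas 6 i := by decide +kernel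

/-- functionals -/
def vLE6s : List (List ℤ) := [[2, 0, -1, 0, 0, 0], [0, 2, 0, -1, 0, 0], [-1, 0, 2, -1, 0, 0], [0, -1, -1, 2, -1, 0], [0, 0, 0, -1, 2, -1],
    [0, 0, 0, 0, -1, 2]]

theorem nvE6s : ∀ x ∈ rlE6, ∃ v ∈ vLE6s, dot x v % 3 ≠ 0 := by decide +kernel

theorem sepE6s : ∀ i : Fin 6, ∀ x ∈ rlE6, (∀ v ∈ vLE6s, (dot x v - v.getD i 0) % 3 = 0) → ∀ y ∈ x, 0 ≤ y := by
  decide +kernel

theorem mc_E6_1 : MCert Cfsg.Lie.chevE6 6 3 alE6 id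
    []
    1 vLE6s cwE6b (3 ^ 1) [0, 1, 0, 0, 0, 0] [3, 4, 5] bLE6b
    [[-1, -1, 1, 0, 0, 0], [1, 1, 1, 0, 0, 0], [-1, 1, 0, 0, 0, 0], [], [], []]
    []
    [[1, 0, 0, 0, 0, 0], [0, 1, 0, 0, 0, 0], [0, 0, 1, 0, 0, 0], [0, 0, 0, 1, 0, 0], [0, 0, 0, 0, 1, 0], [0, 0, 0,
    0, 0, 1]]
    cME6b rlE6 where
  la := rfl
  tm := by decide +kernel
  cm := cmE6b
  ra := by decide +kernel
  lv := by decide +kernel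
  rv := by decide +kernel
  nv := nvE6s
  sep := sepE6s
  one := oneE6b
  com := by decide +kernel
  fix := by decide +kernel
  cnt := cntE6b

/-- functionals -/
def vLE6tw : List (List ℤ) := [[0, 2, 0, -1, 0, 0], [0, -1, -1, 2, -1, 0], [2, 0, -1, 0, -1, 2], [-1, 0, 2, -2, 2, -1]]

theorem nvE6tw : ∀ x ∈ rlE6, ∃ v ∈ vLE6tw, dot x v % 3 ≠ 0 := by decide +kernel

theorem sepE6tw : ∀ i : Fin 6, ∀ x ∈ rlE6, (∀ v ∈ vLE6tw, (dot x v - v.getD i 0) % 3 = 0) → ∀ y ∈ x, 0 ≤ y := by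
  decide +kernel

theorem mc_E6tw_1 : MCert Cfsg.Lie.chevE6 6 3 alE6 id
    []
    1 vLE6tw cwE6b (3 ^ 1) [0, 1, 0, 0, 0, 0] [3, 4, 5] bLE6b
    [[-1, -1, 1, 0, 0, 0], [1, 1, 1, 0, 0, 0], [-1, 1, 0, 0, 0, 0], [], [], []]
    []
    [[1, 0, 0, 0, 0, 0], [0, 1, 0, 0, 0, 0], [0, 0, 1, 0, 0, 0], [0, 0, 0, 1, 0, 0], [0, 0, 0, 0, 1, 0], [0, 0, 0,
    0, 0, 1]]
    cME6b rlE6 where
  la := rfl
  tm := by decide +kernel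
  cm := cmE6b
  ra := by decide +kernel
  lv := by decide +kernel
  rv := by decide +kernel
  nv := nvE6tw
  sep := sepE6tw
  one := oneE6b
  com := by decide +kernel
  fix := by decide +kernel
  cnt := cntE6b

/-- a word -/
def cwE7 : List (Fin 7) := [0, 3, 5, 2, 4, 1, 6, 0, 3, 5, 2, 4, 1, 6]

/-- its matrix -/
def cME7 : List (List ℤ) := [[0, 1, 0, 1, 1, 1, 0], [-1, 0, -1, -1, -1, -1, 0], [0, -1, -1, -2, -1, -1, 0], [1, 1, 2, 3, 2, 2, 1], [-1, -1,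
    -1, -2, -1, -1, -1], [1, 1, 1, 2, 1, 0, 0], [0, 0, 0, -1, -1, 0, 0]]

/-- fixed functionals -/
def bLE7 : List (List ℤ) := [[0, 1, 0, 0, -1, 0, 1]]

theorem cntE7 : ∀ cs ∈ enumAll 3 ([6] : List (Fin 7)).length, cntL 3 rlE7 (lcomb 7 cs bLE7) 0 ≠
    cntL 3 rlE7 [1, 0, 0, 0, 0, 0, 0] 0 ∨ cntL 3 rlE7 (lcomb 7 cs bLE7) 1 ≠ cntL 3 rlE7 [1, 0, 0, 0, 0, 0, 0] 1 := by decide +kernel

theorem cmE7 : ∀ i : Fin 7, ac alE7 cwE7 (bas 7 i) = cME7.getD i [] := by decide +kernel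

theorem oneE7 : ∀ i : Fin 7, acn alE7 cwE7 (9) (bas 7 i) = bas 7 i := by decide +kernel

/-- functionals -/
def vLE7 : List (List ℤ) := [[1, 0, 0, 0, 0, 0, 0], [0, 1, 0, 0, 0, 0, 0], [0, 0, 1, 0, 0, 0, 0], [0, 0, 0, 1, 0, 0, 0], [0, 0, 0, 0, 1, 0,
    0], [0, 0, 0, 0, 0, 1, 0], [0, 0, 0, 0, 0, 0, 1]]

theorem nvE7 : ∀ x ∈ rlE7, ∃ v ∈ vLE7, dot x v % 3 ≠ 0 := by decide +kernel

theorem sepE7 : ∀ i : Fin 7, ∀ x ∈ rlE7, (∀ v ∈ vLE7, (dot x v - v.getD i 0) % 3 = 0) → ∀ y ∈ x, 0 ≤ y := by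
  decide +kernel

theorem mc_E7_1 : MCert Cfsg.Lie.chevE7 7 3 alE7 id
    []
    1 vLE7 cwE7 (3 ^ 2) [1, 0, 0, 0, 0, 0, 0] [6] bLE7
    [[-1, -1, -1, 1, 1, -1, 0], [1, -1, 1, 1, -1, 1, 0], [1, 1, -1, 1, 1, -1, 0], [1, -1, -1, 0, 0, 0, 0], [-1, -1,
    1, 0, -1, 0, 0], [-1, -1, 1, 0, 0, 1, 0], []]
    []
    [[1, 0, 0, 0, 0, 0, 0], [0, 1, 0, 0, 0, 0, 0], [0, 0, 1, 0, 0, 0, 0], [0, 0, 0, 1, 0, 0, 0], [0, 0, 0, 0, 1, 0,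
    0], [0, 0, 0, 0, 0, 1, 0], [0, 0, 0, 0, 0, 0, 1]]
    cME7 rlE7 where
  la := rfl
  tm := by decide +kernel
  cm := cmE7
  ra := by decide +kernel
  lv := by decide +kernel
  rv := by decide +kernel
  nv := nvE7
  sep := sepE7
  one := oneE7
  com := by decide +kernel
  fix := by decide +kernel
  cnt := cntE7

theorem mc_E7_2 : MCert Cfsg.Lie.chevE7 7 3 alE7 id
    [0, 3, 5, 2, 4, 1, 6, 0, 3, 5, 2, 4, 1, 6, 0, 3, 5, 2, 4, 1, 6, 0, 3, 5, 2, 4, 1, 6, 0, 3, 5, 2, 4, 1, 6, 0, 3,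
    5, 2, 4, 1, 6, 0, 3, 5, 2, 4, 1, 6, 0, 3, 5, 2, 4, 1, 6, 0, 3, 5, 2, 4, 1, 6]
    2 vLE7 cwE7 (3 ^ 2) [1, 0, 0, 0, 0, 0, 0] [6] bLE7
    [[-1, -1, -1, 1, 1, -1, 0], [1, -1, 1, 1, -1, 1, 0], [1, 1, -1, 1, 1, -1, 0], [1, -1, -1, 0, 0, 0, 0], [-1, -1,
    1, 0, -1, 0, 0], [-1, -1, 1, 0, 0, 1, 0], []]
    []
    [[-1, 0, 0, 0, 0, 0, 0], [0, -1, 0, 0, 0, 0, 0], [0, 0, -1, 0, 0, 0, 0], [0, 0, 0, -1, 0, 0, 0], [0, 0, 0, 0,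
    -1, 0, 0], [0, 0, 0, 0, 0, -1, 0], [0, 0, 0, 0, 0, 0, -1]]
    cME7 rlE7 where
  la := rfl
  tm := by decide +kernel
  cm := cmE7
  ra := by decide +kernel
  lv := by decide +kernel
  rv := by decide +kernel
  nv := nvE7
  sep := sepE7
  one := oneE7
  com := by decide +kernel
  fix := by decide +kernel
  cnt := cntE7

/-- a word -/
def cwE8 : List (Fin 8) := [0, 3, 5, 7, 2, 4, 1, 6, 0, 3, 5, 7, 2, 4, 1, 6, 0, 3, 5, 7, 2, 4, 1, 6, 0, 3, 5, 7, 2, 4, 1, 6, 0, 3, 5, 7, 2,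
    4, 1, 6, 0, 3, 5, 7, 2, 4, 1, 6, 0, 3, 5, 7, 2, 4, 1, 6, 0, 3, 5, 7, 2, 4, 1, 6, 0, 3, 5, 7, 2, 4, 1, 6, 0, 3,
    5, 7, 2, 4, 1, 6]

/-- its matrix -/
def cME8 : List (List ℤ) := [[0, 1, 1, 2, 2, 1, 0, 0], [-1, -2, -2, -3, -2, -1, -1, -1], [-1, -2, -3, -4, -3, -2, -1, 0], [2, 3, 4, 5, 4,
    3, 2, 1], [-2, -2, -3, -4, -4, -3, -2, -1], [1, 1, 2, 3, 3, 2, 2, 1], [0, -1, -1, -2, -2, -2, -2, -1], [0, 1,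
    0, 1, 1, 1, 1, 0]]

/-- fixed functionals -/
def bLE8 : List (List ℤ) := [[0, -1, -1, 0, 1, 0, 0, 0], [-1, 0, 0, -1, 0, 1, 0, 0], [0, -1, 1, 0, 0, 0, 1, 0], [-1, 0, 0, 1, 0, 0, 0, 1]]

theorem cntE8_k0 : cntL 3 rlE8 [0, 0, 0, 0, 0, 0, 0, 1] 0 = 126 := by decide +kernel

theorem cntE8_k1 : cntL 3 rlE8 [0, 0, 0, 0, 0, 0, 0, 1] 1 = 57 := by decide +kernel

theorem cntE8_0 : ∀ t ∈ enumAll 3 3, cntL 3 rlE8 (lcomb 8 (((0 : ℕ) : ℤ) :: t) bLE8) 0 ≠ 126 ∨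
    cntL 3 rlE8 (lcomb 8 (((0 : ℕ) : ℤ) :: t) bLE8) 1 ≠ 57 := by decide +kernel

theorem cntE8_1 : ∀ t ∈ enumAll 3 3, cntL 3 rlE8 (lcomb 8 (((1 : ℕ) : ℤ) :: t) bLE8) 0 ≠ 126 ∨
    cntL 3 rlE8 (lcomb 8 (((1 : ℕ) : ℤ) :: t) bLE8) 1 ≠ 57 := by decide +kernel

theorem cntE8_2 : ∀ t ∈ enumAll 3 3, cntL 3 rlE8 (lcomb 8 (((2 : ℕ) : ℤ) :: t) bLE8) 0 ≠ 126 ∨
    cntL 3 rlE8 (lcomb 8 (((2 : ℕ) : ℤ) :: t) bLE8) 1 ≠ 57 := by decide +kernel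

theorem cntE8 : ∀ cs ∈ enumAll 3 ([4, 5, 6, 7] : List (Fin 8)).length, cntL 3 rlE8 (lcomb 8 cs bLE8) 0 ≠
    cntL 3 rlE8 [0, 0, 0, 0, 0, 0, 0, 1] 0 ∨ cntL 3 rlE8 (lcomb 8 cs bLE8) 1 ≠ cntL 3 rlE8 [0, 0, 0, 0, 0, 0, 0, 1] 1 := by
  intro cs hcs
  rw [cntE8_k0, cntE8_k1]
  obtain ⟨c, hc, h⟩ := List.mem_flatMap.1 hcs
  obtain ⟨t, ht, rfl⟩ := List.mem_map.1 h
  have hc3 : c < 3 := List.mem_range.1 hc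
  have h3 : c = 0 ∨ c = 1 ∨ c = 2 := by omega
  rcases h3 with rfl | rfl | rfl
  · exact cntE8_0 t ht
  · exact cntE8_1 t ht
  · exact cntE8_2 t ht

theorem cmE8 : ∀ i : Fin 8, ac alE8 cwE8 (bas 8 i) = cME8.getD i [] := by decide +kernel

theorem oneE8 : ∀ i : Fin 8, acn alE8 cwE8 (3) (bas 8 i) = bas 8 i := by decide +kernel

/-- functionals -/
def vLE8 : List (List ℤ) := [[1, 0, 0, 0, 0, 0, 0, 0], [0, 1, 0, 0, 0, 0, 0, 0], [0, 0, 1, 0, 0, 0, 0, 0], [0, 0, 0, 1, 0, 0, 0, 0], [0, 0,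
    0, 0, 1, 0, 0, 0], [0, 0, 0, 0, 0, 1, 0, 0], [0, 0, 0, 0, 0, 0, 1, 0], [0, 0, 0, 0, 0, 0, 0, 1]]

theorem nvE8 : ∀ x ∈ rlE8, ∃ v ∈ vLE8, dot x v % 3 ≠ 0 := by decide +kernel

theorem sepE8 : ∀ i : Fin 8, ∀ x ∈ rlE8, (∀ v ∈ vLE8, (dot x v - v.getD i 0) % 3 = 0) → ∀ y ∈ x, 0 ≤ y := by
  decide +kernel

theorem mc_E8_1 : MCert Cfsg.Lie.chevE8 8 3 alE8 id
    []
    1 vLE8 cwE8 (3 ^ 1) [0, 0, 0, 0, 0, 0, 0, 1] [4, 5, 6, 7] bLE8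
    [[-1, -1, 1, 0, 0, 0, 0, 0], [1, 1, 0, 1, 0, 0, 0, 0], [-1, 0, 1, 0, 0, 0, 0, 0], [0, -1, 0, 1, 0, 0, 0, 0],
    [], [], [], []]
    []
    [[1, 0, 0, 0, 0, 0, 0, 0], [0, 1, 0, 0, 0, 0, 0, 0], [0, 0, 1, 0, 0, 0, 0, 0], [0, 0, 0, 1, 0, 0, 0, 0], [0, 0,
    0, 0, 1, 0, 0, 0], [0, 0, 0, 0, 0, 1, 0, 0], [0, 0, 0, 0, 0, 0, 1, 0], [0, 0, 0, 0, 0, 0, 0, 1]]
    cME8 rlE8 where
  la := rfl
  tm := by decide +kernel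
  cm := cmE8
  ra := by decide +kernel
  lv := by decide +kernel
  rv := by decide +kernel
  nv := nvE8
  sep := sepE8
  one := oneE8
  com := by decide +kernel
  fix := by decide +kernel
  cnt := cntE8

theorem mc_E8_2 : MCert Cfsg.Lie.chevE8 8 3 alE8 id
    [0, 3, 5, 7, 2, 4, 1, 6, 0, 3, 5, 7, 2, 4, 1, 6, 0, 3, 5, 7, 2, 4, 1, 6, 0, 3, 5, 7, 2, 4, 1, 6, 0, 3, 5, 7, 2,
    4, 1, 6, 0, 3, 5, 7, 2, 4, 1, 6, 0, 3, 5, 7, 2, 4, 1, 6, 0, 3, 5, 7, 2, 4, 1, 6, 0, 3, 5, 7, 2, 4, 1, 6, 0, 3,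
    5, 7, 2, 4, 1, 6, 0, 3, 5, 7, 2, 4, 1, 6, 0, 3, 5, 7, 2, 4, 1, 6, 0, 3, 5, 7, 2, 4, 1, 6, 0, 3, 5, 7, 2, 4, 1,
    6, 0, 3, 5, 7, 2, 4, 1, 6]
    2 vLE8 cwE8 (3 ^ 1) [0, 0, 0, 0, 0, 0, 0, 1] [4, 5, 6, 7] bLE8
    [[-1, -1, 1, 0, 0, 0, 0, 0], [1, 1, 0, 1, 0, 0, 0, 0], [-1, 0, 1, 0, 0, 0, 0, 0], [0, -1, 0, 1, 0, 0, 0, 0],
    [], [], [], []]
    []
    [[-1, 0, 0, 0, 0, 0, 0, 0], [0, -1, 0, 0, 0, 0, 0, 0], [0, 0, -1, 0, 0, 0, 0, 0], [0, 0, 0, -1, 0, 0, 0, 0],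
    [0, 0, 0, 0, -1, 0, 0, 0], [0, 0, 0, 0, 0, -1, 0, 0], [0, 0, 0, 0, 0, 0, -1, 0], [0, 0, 0, 0, 0, 0, 0, -1]]
    cME8 rlE8 where
  la := rfl
  tm := by decide +kernel
  cm := cmE8
  ra := by decide +kernel
  lv := by decide +kernel
  rv := by decide +kernel
  nv := nvE8
  sep := sepE8
  one := oneE8
  com := by decide +kernel
  fix := by decide +kernel
  cnt := cntE8

/-- a word -/
def cwE8f : List (Fin 8) := [0, 3, 5, 7, 2, 4, 1, 6, 0, 3, 5, 7, 2, 4, 1, 6, 0, 3, 5, 7, 2, 4, 1, 6, 0, 3, 5, 7, 2, 4, 1, 6, 0, 3, 5, 7, 2,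
    4, 1, 6, 0, 3, 5, 7, 2, 4, 1, 6]

/-- its matrix -/
def cME8f : List (List ℤ) := [[1, 1, 2, 2, 1, 1, 1, 1], [-1, -2, -2, -3, -2, -2, -1, 0], [-2, -2, -3, -4, -3, -2, -1, -1], [2, 3, 4, 6, 5,
    4, 2, 1], [-1, -2, -3, -5, -4, -3, -2, -1], [1, 2, 2, 4, 3, 2, 2, 1], [-1, -1, -1, -2, -2, -2, -2, -1], [1, 0,
    1, 1, 1, 1, 1, 0]]

/-- fixed functionals -/
def bLE8f : List (List ℤ) := [[0, 2, -2, 0, 1, 0, 1, 0], [-2, 0, 0, 1, 0, 2, 0, 1]]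

theorem cntE8f : ∀ cs ∈ enumAll 5 ([6, 7] : List (Fin 8)).length, cntL 5 rlE8 (lcomb 8 cs bLE8f) 0 ≠
    cntL 5 rlE8 [0, 0, 0, 0, 0, 0, 0, 1] 0 ∨ cntL 5 rlE8 (lcomb 8 cs bLE8f) 1 ≠ cntL 5 rlE8 [0, 0, 0, 0, 0, 0, 0, 1] 1 := by decide +kernel

theorem cmE8f : ∀ i : Fin 8, ac alE8 cwE8f (bas 8 i) = cME8f.getD i [] := by decide +kernel

theorem oneE8f : ∀ i : Fin 8, acn alE8 cwE8f (5) (bas 8 i) = bas 8 i := by decide +kernel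

/-- functionals -/
def vLE8f : List (List ℤ) := [[1, 0, 0, 0, 0, 0, 0, 0], [0, 1, 0, 0, 0, 0, 0, 0], [0, 0, 1, 0, 0, 0, 0, 0], [0, 0, 0, 1, 0, 0, 0, 0], [0, 0,
    0, 0, 1, 0, 0, 0], [0, 0, 0, 0, 0, 1, 0, 0], [0, 0, 0, 0, 0, 0, 1, 0], [0, 0, 0, 0, 0, 0, 0, 1]]

theorem nvE8f : ∀ x ∈ rlE8, ∃ v ∈ vLE8f, dot x v % 5 ≠ 0 := by decide +kernel

theorem sepE8f : ∀ i : Fin 8, ∀ x ∈ rlE8, (∀ v ∈ vLE8f, (dot x v - v.getD i 0) % 5 = 0) → ∀ y ∈ x, 0 ≤ y := by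
  decide +kernel

theorem mc_E8_5_1 : MCert Cfsg.Lie.chevE8 8 5 alE8 id
    []
    1 vLE8f cwE8f (5 ^ 1) [0, 0, 0, 0, 0, 0, 0, 1] [6, 7] bLE8f
    [[-1, -2, -2, -1, 0, 2, 0, 0], [2, -1, -1, 0, -1, 1, 0, 0], [2, -1, -2, -1, -2, 0, 0, 0], [-1, 0, 1, 1, -2, -2,
    0, 0], [0, -1, -2, 2, 0, 1, 0, 0], [2, -1, 0, -2, -1, 2, 0, 0], [], []]
    []
    [[1, 0, 0, 0, 0, 0, 0, 0], [0, 1, 0, 0, 0, 0, 0, 0], [0, 0, 1, 0, 0, 0, 0, 0], [0, 0, 0, 1, 0, 0, 0, 0], [0, 0,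
    0, 0, 1, 0, 0, 0], [0, 0, 0, 0, 0, 1, 0, 0], [0, 0, 0, 0, 0, 0, 1, 0], [0, 0, 0, 0, 0, 0, 0, 1]]
    cME8f rlE8 where
  la := rfl
  tm := by decide +kernel
  cm := cmE8f
  ra := by decide +kernel
  lv := by decide +kernel
  rv := by decide +kernel
  nv := nvE8f
  sep := sepE8f
  one := oneE8f
  com := by decide +kernel
  fix := by decide +kernel
  cnt := cntE8f

theorem mc_E8_5_4 : MCert Cfsg.Lie.chevE8 8 5 alE8 id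
    [0, 3, 5, 7, 2, 4, 1, 6, 0, 3, 5, 7, 2, 4, 1, 6, 0, 3, 5, 7, 2, 4, 1, 6, 0, 3, 5, 7, 2, 4, 1, 6, 0, 3, 5, 7, 2,
    4, 1, 6, 0, 3, 5, 7, 2, 4, 1, 6, 0, 3, 5, 7, 2, 4, 1, 6, 0, 3, 5, 7, 2, 4, 1, 6, 0, 3, 5, 7, 2, 4, 1, 6, 0, 3,
    5, 7, 2, 4, 1, 6, 0, 3, 5, 7, 2, 4, 1, 6, 0, 3, 5, 7, 2, 4, 1, 6, 0, 3, 5, 7, 2, 4, 1, 6, 0, 3, 5, 7, 2, 4, 1,
    6, 0, 3, 5, 7, 2, 4, 1, 6]
    4 vLE8f cwE8f (5 ^ 1) [0, 0, 0, 0, 0, 0, 0, 1] [6, 7] bLE8f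
    [[-1, -2, -2, -1, 0, 2, 0, 0], [2, -1, -1, 0, -1, 1, 0, 0], [2, -1, -2, -1, -2, 0, 0, 0], [-1, 0, 1, 1, -2, -2,
    0, 0], [0, -1, -2, 2, 0, 1, 0, 0], [2, -1, 0, -2, -1, 2, 0, 0], [], []]
    []
    [[-1, 0, 0, 0, 0, 0, 0, 0], [0, -1, 0, 0, 0, 0, 0, 0], [0, 0, -1, 0, 0, 0, 0, 0], [0, 0, 0, -1, 0, 0, 0, 0],
    [0, 0, 0, 0, -1, 0, 0, 0], [0, 0, 0, 0, 0, -1, 0, 0], [0, 0, 0, 0, 0, 0, -1, 0], [0, 0, 0, 0, 0, 0, 0, -1]]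
    cME8f rlE8 where
  la := rfl
  tm := by decide +kernel
  cm := cmE8f
  ra := by decide +kernel
  lv := by decide +kernel
  rv := by decide +kernel
  nv := nvE8f
  sep := sepE8f
  one := oneE8f
  com := by decide +kernel
  fix := by decide +kernel
  cnt := cntE8f

/-- a word -/
def cwE8g : List (Fin 8) := [5, 6, 7, 2, 1, 3, 4, 5, 6, 0, 2, 3, 4, 5, 1, 3, 4, 2, 3, 0, 2, 1, 3, 4, 5, 6, 7, 4, 3, 2, 1, 3, 4, 5, 6, 2, 3,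
    4, 5, 3, 4, 2, 3, 0, 2, 1, 3, 4]

/-- its matrix -/
def cME8g : List (List ℤ) := [[0, 1, 1, 1, 1, 0, 0, 0], [0, 1, 1, 2, 1, 1, 1, 1], [1, 1, 1, 2, 1, 1, 1, 0], [0, 0, 0, 0, 1, 1, 0, 0], [-2,
    -3, -4, -6, -5, -4, -2, -1], [2, 2, 4, 5, 4, 3, 2, 1], [0, 0, -1, -1, -1, -1, -1, 0], [-1, -1, -1, -1, -1, -1,
    -1, -1]]

/-- fixed functionals -/
def bLE8g : List (List ℤ) := [[-2, 2, -1, 1, 1, 0, 2, 1]]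

theorem cntE8g : ∀ cs ∈ enumAll 5 ([7] : List (Fin 8)).length, cntL 5 rlE8 (lcomb 8 cs bLE8g) 0 ≠
    cntL 5 rlE8 [0, 1, 0, 0, 1, -1, 0, -1] 0 ∨ cntL 5 rlE8 (lcomb 8 cs bLE8g) 1 ≠ cntL 5 rlE8 [0, 1, 0, 0, 1, -1, 0, -1] 1 := by decide +kernel

theorem cmE8g : ∀ i : Fin 8, ac alE8 cwE8g (bas 8 i) = cME8g.getD i [] := by decide +kernel

theorem oneE8g : ∀ i : Fin 8, acn alE8 cwE8g (5) (bas 8 i) = bas 8 i := by decide +kernel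

/-- functionals -/
def vLE8g : List (List ℤ) := [[-2, 1, 0, -2, 1, 0, 0, 0], [-2, -1, -2, 2, 0, 1, 0, 0], [0, 0, 1, 1, 0, 0, 1, 0], [0, 1, 2, 1, 0, 0, 0, 1]]

theorem nvE8g : ∀ x ∈ rlE8, ∃ v ∈ vLE8g, dot x v % 5 ≠ 0 := by decide +kernel

theorem sepE8g : ∀ i : Fin 8, ∀ x ∈ rlE8, (∀ v ∈ vLE8g, (dot x v - v.getD i 0) % 5 = 0) → ∀ y ∈ x, 0 ≤ y := by
  decide +kernel

theorem mc_E8_5_2 : MCert Cfsg.Lie.chevE8 8 5 alE8 id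
    [2, 3, 0, 2, 1, 3, 4, 5, 6, 7, 4, 3, 2, 1, 3, 4, 5, 6, 0, 2, 3, 4, 5, 1, 3, 4, 2, 3, 0, 2, 1, 3, 4, 5, 6, 7, 4,
    2, 3, 0, 2, 1, 3, 4, 5, 6, 2, 3, 4, 5, 3, 4, 2, 3, 0, 2, 1, 3, 4, 3]
    2 vLE8g cwE8g (5 ^ 1) [0, 1, 0, 0, 1, -1, 0, -1] [7] bLE8g
    [[-1, -1, 0, 2, 0, -2, 0, 0], [1, 1, 0, -1, -1, 1, 0, 0], [0, 1, -1, 1, -1, -1, 0, 0], [-2, -2, 0, -2, 0, 1, 0,
    0], [1, -1, 1, -1, 2, 2, 0, 0], [2, -1, -1, 0, -2, -1, 0, 0], [1, 1, 1, -1, 1, -2, 0, 0], []]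
    [[-2, 0, 0, 0, 0, 0, 0, 0], [-1, 0, 0, 0, 0, 0, 0, 0], [2, 0, 0, 0, 0, 0, 0, 0], [2, 0, 0, 0, 0, 0, 0, 0], [],
    [2, 0, 0, 0, 0, 0, 0, 0], [2, 0, 0, 0, 0, 0, 0, 0], []]
    [[0, 0, 0, 0, 1, 1, 0, 0], [1, 1, 2, 2, 2, 1, 1, 0], [1, 1, 2, 3, 2, 2, 2, 1], [0, 0, -1, -1, -1, -1, -1, 0],
    [-2, -3, -3, -5, -4, -3, -2, -1], [1, 3, 3, 5, 4, 3, 2, 1], [0, -1, -1, -1, -1, -1, -1, -1], [-1, -1, -2, -3,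
    -2, -1, 0, 0]]
    cME8g rlE8 where
  la := rfl
  tm := by decide +kernel
  cm := cmE8g
  ra := by decide +kernel
  lv := by decide +kernel
  rv := by decide +kernel
  nv := nvE8g
  sep := sepE8g
  one := oneE8g
  com := by decide +kernel
  fix := by decide +kernel
  cnt := cntE8g

theorem mc_E8_5_3 : MCert Cfsg.Lie.chevE8 8 5 alE8 id
    [6, 7, 4, 5, 6, 3, 4, 5, 1, 3, 4, 2, 3, 0, 2, 1, 3, 4, 5, 6, 7, 5, 6, 3, 4, 5, 1, 3, 4, 2, 3, 0, 2, 1, 3, 4, 5,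
    6, 5, 1, 3, 4, 2, 3, 0, 2, 1, 3, 4, 5, 4, 3, 0, 2, 1, 3, 0, 2, 1, 0]
    3 vLE8g cwE8g (5 ^ 1) [0, 1, 0, 0, 1, -1, 0, -1] [7] bLE8g
    [[-1, -1, 0, 2, 0, -2, 0, 0], [1, 1, 0, -1, -1, 1, 0, 0], [0, 1, -1, 1, -1, -1, 0, 0], [-2, -2, 0, -2, 0, 1, 0,
    0], [1, -1, 1, -1, 2, 2, 0, 0], [2, -1, -1, 0, -2, -1, 0, 0], [1, 1, 1, -1, 1, -2, 0, 0], []]
    [[2, 0, 0, 0, 0, 0, 0, 0], [1, 0, 0, 0, 0, 0, 0, 0], [-2, 0, 0, 0, 0, 0, 0, 0], [-2, 0, 0, 0, 0, 0, 0, 0], [],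
    [-2, 0, 0, 0, 0, 0, 0, 0], [-2, 0, 0, 0, 0, 0, 0, 0], []]
    [[0, 0, 0, 0, -1, -1, 0, 0], [-1, -1, -2, -2, -2, -1, -1, 0], [-1, -1, -2, -3, -2, -2, -2, -1], [0, 0, 1, 1, 1,
    1, 1, 0], [2, 3, 3, 5, 4, 3, 2, 1], [-1, -3, -3, -5, -4, -3, -2, -1], [0, 1, 1, 1, 1, 1, 1, 1], [1, 1, 2, 3, 2,
    1, 0, 0]]
    cME8g rlE8 where
  la := rfl
  tm := by decide +kernel
  cm := cmE8g
  ra := by decide +kernel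
  lv := by decide +kernel
  rv := by decide +kernel
  nv := nvE8g
  sep := sepE8g
  one := oneE8g
  com := by decide +kernel
  fix := by decide +kernel
  cnt := cntE8g

end Cfsg.Agent.H778.Exc
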