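import Cfsg.Agent.H778.ExcTwTor

/-!
# `³D₄(q)`, `p = 3` (helper778)
-/

set_option autoImplicit false
set_option linter.unusedSectionVars false

namespace Cfsg.Agent.H778.Exc

open CoxeterSystem Cfsg Cfsg.Lie Cfsg.Lie.ChevalleyDatum
open Cfsg.Agent.ChevalleyStructure Cfsg.Agent.ChevalleyStructure.Elts Cfsg.Agent.ChevalleyStructure.CoxeterGeom
  Cfsg.Agent.ChevalleyStructure.CoxeterGeomTypes Cfsg.Agent.ChevalleyStructure.NPerm
  Cfsg.Agent.ChevalleyStructure.RootVec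
open Cfsg.Agent.Tits.Roots Cfsg.Agent.Tits.Core Cfsg.Agent.Nodes Cfsg.Agent.Nodes.Reps Cfsg.Agent.Nodes.BNOf
  Cfsg.Agent.Nodes.RGDChev Cfsg.Agent.Nodes.Bruhat
open Cfsg.Agent.KFacts.RgdField Cfsg.Agent.KFacts.RgdChevCoord Cfsg.Agent.BpExc.TorCent Cfsg.Agent.BpExc.TorChev
open Cfsg.Agent.GpExc.Field Cfsg.Agent.BpExc.Tow Cfsg.Agent.BpExc.TowChev Cfsg.Agent.BpExc.Fr
  Cfsg.Agent.BpExc.LangFr Cfsg.Agent.LangThm Cfsg.Agent.BpExc Cfsg.Agent.H129.TorusChar Cfsg.Agent.H129.TorusMain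
  Cfsg.Agent.H129.TorusUntw Cfsg.Agent.ChevStructure.FieldMap Cfsg.Agent.BpExc.EmbSplit
open Cfsg.Agent.H573 Cfsg.Agent.H130.WeylTab Cfsg.Agent.H130.WeylCk
open Cfsg.Agent.ChevalleyStructure.GraphSymm (symmD4a)
open Cfsg.Agent.ChevalleyStructure.D4Fixed (sig)
open Cfsg.Agent.CpAut.RgdUntw (fld)
open Cfsg.Agent.BpExc.FamTw.Gr

universe u v

variable {K : Type u} [Field K] {q : ℕ}

/-- the inclusion of `³D₄(q)` in `D₄(k)` -/
noncomputable def inc4 {k : Type u} [Field k] (f : K →+* k) : ↥(twistedD4 K q) →* ↥(chevD4.group k) :=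
  (emb type_D4.inList f).comp (Subgroup.inclusion (genSubgroup_le_group type_D4.inList (d4Words K q)))

theorem inc4_injective {k : Type u} [Field k] (f : K →+* k) : Function.Injective (inc4 (q := q) f) :=
  (emb_injective type_D4.inList f).comp
    (Subgroup.inclusion_injective (genSubgroup_le_group type_D4.inList (d4Words K q)))

theorem inc4_of {k : Type u} [Field k] (f : K →+* k) {x : ↥(chevD4.group K)} (hx : (x : GL chevD4.Idx K) ∈ twistedD4 K q) :
    ∃ s : ↥(twistedD4 K q), inc4 f s = emb type_D4.inList f x :=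
  ⟨⟨x, hx⟩, rfl⟩

theorem simple_D4 : chevD4.simple 0 = 18 ∧ chevD4.simple 1 = 14 ∧ chevD4.simple 2 = 13 ∧ chevD4.simple 3 = 12 := by
  decide +kernel

/-- the inverse of the Cartan matrix of `D₄` -/
abbrev B4 : Fin 4 → Fin 4 → ℤ := ![![2, 2, 1, 1], ![2, 4, 2, 2], ![1, 2, 2, 1], ![1, 2, 1, 2]]

/-- the triality of the diagram of `D₄` -/
abbrev t4 : Equiv.Perm (Fin 4) := symmD4a.σ₀

theorem B4_symm : ∀ m j : Fin 4, B4 (t4 m) (t4 j) = B4 m j := by decide +kernel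

theorem sig4 : t4 0 = 2 ∧ t4 1 = 1 ∧ t4 2 = 3 ∧ t4 3 = 0 := by decide +kernel

theorem t4_cube : ∀ i : Fin 4, t4 (t4 (t4 i)) = i := by decide +kernel

theorem fa_t4 : ∀ i : Fin 4, RCert.fa 4 3 [0, 1, 0, 0] (t4 i) = RCert.fa 4 3 [0, 1, 0, 0] i := by
  decide +kernel

theorem wU_hWord_eq (r : ℕ) (c : K) : D4Cols.wU (chevD4.hWord r c) = hG type_D4.inList r c := by
  apply Units.ext
  rw [coe_hG]
  exact D4Cols.coe_wU _

/-- the product of coroot elements is in `³D₄(q)` -/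
theorem prod_mem_twD4 {φ : K →+* K} (hφ : ∀ t, φ t = t ^ q) {c : Fin 4 → K} (hcc : ∀ j, c (t4 j) = c j ^ q) :
    (((([0, 2, 3, 1] : List (Fin 4)).map (fun j => hc type_D4 j (c j))).prod : ↥(chevD4.group K)) :
      GL chevD4.Idx K) ∈ twistedD4 K q := by
  obtain ⟨s0, s1, s2, s3⟩ := simple_D4
  obtain ⟨a0, a1, a2, -⟩ := sig4
  have h1 := D4H1.h14_mem (K := K) (q := q) hφ (t := c 1) (by rw [hφ, ← hcc, a1])
  have h2 := D4H1.h_outer_mem (K := K) (q := q) hφ (c 0)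
  have e2 : φ (c 0) = c 2 := by rw [hφ, ← hcc, a0]
  have e3 : φ (c 2) = c 3 := by rw [hφ, ← hcc, a2]
  rw [e2, e3, wU_hWord_eq, wU_hWord_eq, wU_hWord_eq] at h2
  rw [wU_hWord_eq] at h1
  have e : (((([0, 2, 3, 1] : List (Fin 4)).map (fun j => hc type_D4 j (c j))).prod : ↥(chevD4.group K)) :
      GL chevD4.Idx K) = (hG type_D4.inList 18 (c 0) * hG type_D4.inList 13 (c 2) * hG type_D4.inList 12 (c 3)) *
        hG type_D4.inList 14 (c 1) := by
    have e1 : (((([0, 2, 3, 1] : List (Fin 4)).map (fun j => hc type_D4 j (c j))).prod : ↥(chevD4.group K)) :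
      GL chevD4.Idx K) = hG type_D4.inList (chevD4.simple 0) (c 0) * (hG type_D4.inList (chevD4.simple 2) (c 2) *
        (hG type_D4.inList (chevD4.simple 3) (c 3) * (hG type_D4.inList (chevD4.simple 1) (c 1) * 1))) := rfl
    rw [e1, s0, s1, s2, s3]
    group
  rw [e]
  exact mul_mem h2 h1

/-- `³D₄(q)`, `p = 3` -/
theorem comm_twD4_three [Fact (Nat.Prime 3)] [Fintype K] (hq : IsPrimePow q) (hK : Fintype.card K = q ^ 3)
    (hpF : ¬ 3 ∣ Fintype.card K) (hpc : PCent 3 ↥(twistedD4 K q)) (P : Sylow 3 ↥(twistedD4 K q)) :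
    IsMulCommutative P := by
  obtain ⟨r, e, hr, hcF, hck, he, hqe, hk⟩ := exists_closure (F := K) rfl
  obtain ⟨φ, hφ⟩ := D4Fixed.exists_frob hq hK
  obtain ⟨m, hm0, hm⟩ := exists_eq_pow hr.out hq he.ne' (hK.symm.trans hqe)
  have hpr : 3 ≠ r := by
    rintro rfl
    exact hpF (by rw [hqe]; exact dvd_pow_self 3 he.ne')
  obtain ⟨f, hf⟩ : ∃ f : K →+* AlgebraicClosure K, f = algebraMap K (AlgebraicClosure K) := ⟨_, rfl⟩
  obtain ⟨Φ, hΦe⟩ : ∃ Φ : AlgebraicClosure K ≃+* AlgebraicClosure K,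
    Φ = iterateFrobeniusEquiv (AlgebraicClosure K) r m := ⟨_, rfl⟩
  have hΦ : ∀ a, Φ a = a ^ r ^ m := by
    intro a
    rw [hΦe]
    exact iterateFrobeniusEquiv_def _ r m a
  have hΦq : ∀ a, (Φ : AlgebraicClosure K →+* AlgebraicClosure K) a = a ^ q := by
    intro a
    rw [hm]
    exact hΦ a
  let cs := coxeterD4.toCoxeterSystem
  have hD4 : InList chevD4 := type_D4.inList
  have hγ := coe_gr (L := AlgebraicClosure K) hD4 symmD4a
  have hσ := SigFr.isFrob_symm_fld (p := r) symmD4a hγ hΦ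
  have Fσ := (SigFr.fr_D4 hγ cs).mul (SigFr.fr_fld Nodes.RGDTwD4.hp cs Φ)
  have hsg : ∀ y : ↥(chevD4.group (AlgebraicClosure K)),
      (((gr hD4 symmD4a * fld chevD4 Φ : MulAut ↥(chevD4.group (AlgebraicClosure K))) y :
        ↥(chevD4.group (AlgebraicClosure K))) : GL chevD4.Idx (AlgebraicClosure K)) =
      sig (Φ : AlgebraicClosure K →+* AlgebraicClosure K) (y : GL chevD4.Idx (AlgebraicClosure K)) := by
    intro y
    rfl
  have hfix : ∀ a : ↥(twistedD4 K q), (gr hD4 symmD4a * fld chevD4 Φ :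
      MulAut ↥(chevD4.group (AlgebraicClosure K))) (inc4 f a) = inc4 f a := fun a => by
    apply Subtype.ext
    rw [hsg]
    exact (EmbInst.twD4_fix (f := f) hq hK hΦq a.2).2
  have hWf : Finite coxeterD4.Group := finite_W type_D4 cs
  have R := cert_D4_3.toRat type_D4 cs lists_D4 (by rw [card_D4]; norm_num) (by rw [card_D4]; norm_num)
  refine R.comm_tw gen_three hk hpr hm0 hσ Fσ invC_D4 two_ne_zero (fun i => ?_) hpc (inc4_injective f)
    (fun y hy hyj => ?_) P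
  · have h2 : ((AddEquiv.refl (Fin 4 → ℤ)).trans (SigFr.latt t4.symm)) (sr i) = (sr (t4 i) : Fin 4 → ℤ) :=
      latt_sr t4 i
    rw [← fa_t4 i, ← ev_sr (RCert.fa 4 3 [0, 1, 0, 0]) (t4 i), ← h2]
    rfl
  · have h1 : sig (Φ : AlgebraicClosure K →+* AlgebraicClosure K) (y : GL chevD4.Idx (AlgebraicClosure K)) = y := by
      rw [← hsg, hy]
    obtain ⟨g, hg, t, ht, e1⟩ := EmbInst.twD4_split (f := f) hq hK hΦq y.2 h1
    have ht' : t ∈ chevD4.group (AlgebraicClosure K) := diagonal_le_group hD4 _ ht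
    have hn := EmbInst.twD4_normalizer (f := f) hq hK hΦq y.2 h1
    have e2 : y = inc4 f ⟨g, hg⟩ * ⟨t, ht'⟩ := Subtype.ext e1
    obtain ⟨j, hj⟩ := hyj
    refine mem_of_pow (N := (inc4 (q := q) f).range) (a := inc4 f ⟨g, hg⟩) (t := ⟨t, ht'⟩) ⟨_, rfl⟩ e2 (fun b hb => ?_)
      (d := 2) ?_ (m := 3 ^ j) (Nat.Coprime.pow_left j (by norm_num)) hj
    · obtain ⟨b', rfl⟩ := hb
      have h2 := (Subgroup.mem_normalizer_iff.1 hn (glMap chevD4 f b')).1 ⟨b', b'.2, rfl⟩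
      obtain ⟨c, hc, hc'⟩ := h2
      exact ⟨⟨c, hc⟩, Subtype.ext hc'⟩
    · have hTT : (⟨t, ht'⟩ : ↥(chevD4.group (AlgebraicClosure K))) ∈ TT chevD4 (AlgebraicClosure K) := ht
      have hft : (gr hD4 symmD4a * fld chevD4 Φ : MulAut ↥(chevD4.group (AlgebraicClosure K))) ⟨t, ht'⟩ = ⟨t, ht'⟩ := by
        have h3 := hy
        rw [e2, map_mul, hfix] at h3
        exact mul_left_cancel h3
      have hv : ∀ i : Fin 4, cX type_D4 (⟨t, ht'⟩ : ↥(chevD4.group (AlgebraicClosure K))) (sr (t4 i)) =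
          cX type_D4 ⟨t, ht'⟩ (sr i) ^ q := by
        intro i
        have h3 := cX_sigma type_D4 cs hσ Fσ hTT (sr i)
        rw [hft, ← hm] at h3
        rw [← h3, ← latt_sr t4 i]
        rfl
      have hvr : ∀ i : Fin 4, ∃ b : K, f b = cX type_D4 ⟨t, ht'⟩ (sr i) := by
        intro i
        refine Emb.mem_range_of_pow f ?_
        have h3 := hv (t4 (t4 i))
        have h5 : q * (q * q) = q ^ 3 := by ring
        rw [t4_cube i, hv (t4 i), hv i, ← pow_mul, ← pow_mul, h5, ← hK] at h3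
        exact h3.symm
      choose b hb using hvr
      have hbq : ∀ i, b (t4 i) = b i ^ q := fun i => f.injective (by rw [map_pow, hb, hb, hv])
      have h3 := torus_pow type_D4 f invC_D4 [0, 2, 3, 1] (fun g => by
        show g 0 * (g 2 * (g 3 * (g 1 * 1))) = _
        rw [Fin.prod_univ_four]
        ring) hTT hb
      obtain ⟨s, hs⟩ := inc4_of (q := q) f (prod_mem_twD4 hφ (c := fun j => ∏ m, b m ^ B4 m j)
        (coroot_frob t4 B4_symm hbq))
      exact ⟨s, hs.trans h3⟩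

end Cfsg.Agent.H778.Exc
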